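import Mathlib
import Cfsg.Agent.Helper2.Aut.OutS4
import Cfsg.Agent.Helper2.Aut.OutD4

set_option autoImplicit false
set_option linter.unusedSectionVars false
set_option linter.unusedSimpArgs false
set_option linter.unusedVariables false

/-! The structure of `Out` for the Chevalley group of type `D₄`, part 1: the group of the classes
of the graph automorphisms. -/

namespace Cfsg.Agent.Helper2.Aut

open Cfsg.Lie Cfsg.Agent.Helper6 Cfsg.Agent.Helper2.BN Cfsg.Agent.Helper2.Levi

variable {F : Type*} [Field F]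

/-- the group of the symmetries of the `D₄` diagram -/
def symSubD4 : Subgroup (Equiv.Perm (Fin chevD4.rank)) where
  carrier := {π | chevD4.IsDiagramSymmetry π}
  mul_mem' := by
    intro a b ha hb i j hij
    show chevD4.bonds (a (b i)) (a (b j)) = _
    rw [ha _ _ (fun e => hij (b.injective e)), hb _ _ hij]
  one_mem' := fun i j _ => rfl
  inv_mem' := by
    intro a ha i j hij
    have h := ha (a⁻¹ i) (a⁻¹ j) (fun e => hij (a⁻¹.injective e))
    have e1 : a (a⁻¹ i) = i := Equiv.apply_symm_apply a i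
    have e2 : a (a⁻¹ j) = j := Equiv.apply_symm_apply a j
    rw [e1, e2] at h
    exact h.symm

theorem mem_symSubD4 (π : Equiv.Perm (Fin chevD4.rank)) :
    π ∈ symSubD4 ↔ chevD4.IsDiagramSymmetry π := Iff.rfl

theorem card_symSubD4 : Nat.card symSubD4 = 6 := by
  have e : ↥symSubD4 ≃ {π : Equiv.Perm (Fin chevD4.rank) // chevD4.IsDiagramSymmetry π} :=
    Equiv.subtypeEquivRight (fun π => Iff.rfl)
  rw [Nat.card_congr e, Nat.card_eq_fintype_card, card_sym_D4]

/-- the graph-shaped automorphism attached to a symmetry -/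
noncomputable def gamD4 (Δ : BNData chevD4 F) (π : symSubD4) : MulAut ↥(chevD4.group F) :=
  gammaOf Δ ⟨π.1, symReal_D4 Δ π.1 π.2⟩

theorem gamD4_spec (Δ : BNData chevD4 F) (π : symSubD4) : GShape Δ (gamD4 Δ π) π.1 :=
  gammaOf_spec Δ ⟨π.1, symReal_D4 Δ π.1 π.2⟩

/-- the classes of the graph automorphisms -/
noncomputable def gbarHom (Δ : BNData chevD4 F) : symSubD4 →* Cfsg.Out ↥(chevD4.group F) where
  toFun π := outMk _ (gamD4 Δ π)
  map_one' := by
    have e : gamD4 Δ 1 = MulEquiv.refl _ := (gamD4_spec Δ 1).unique isTab_D4 (gShape_refl Δ)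
    rw [e]
    exact map_one _
  map_mul' := by
    intro a b
    have e : gamD4 Δ (a * b) = gamD4 Δ a * gamD4 Δ b :=
      (gamD4_spec Δ (a * b)).unique isTab_D4
        (GShape.mul_of_exp_one (graphExp_D4 _) (gamD4_spec Δ a) (gamD4_spec Δ b))
    rw [e, map_mul]

theorem gbarHom_apply (Δ : BNData chevD4 F) (π : symSubD4) :
    gbarHom Δ π = outMk _ (gamD4 Δ π) := rfl

theorem gbarHom_injective [Finite F] (Δ : BNData chevD4 F) : Function.Injective (gbarHom Δ) := by
  intro a b h
  have h1 : dbarHom isTab_D4 Δ 1 * outMk _ (gammaOf Δ ⟨a.1, symReal_D4 Δ a.1 a.2⟩) *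
      psiHom isTab_D4 Δ.hB 1 =
      dbarHom isTab_D4 Δ 1 * outMk _ (gammaOf Δ ⟨b.1, symReal_D4 Δ b.1 b.2⟩) *
      psiHom isTab_D4 Δ.hB 1 := by
    rw [map_one, map_one, one_mul, mul_one, one_mul]
    exact h
  obtain ⟨h2, _, _⟩ := xi_unique isTab_D4 Δ h1
  have h3 : (⟨a.1, symReal_D4 Δ a.1 a.2⟩ : {π : Equiv.Perm (Fin chevD4.rank) // SymReal Δ π}).1 =
      (⟨b.1, symReal_D4 Δ b.1 b.2⟩ : {π : Equiv.Perm (Fin chevD4.rank) // SymReal Δ π}).1 :=
    congrArg Subtype.val h2
  exact Subtype.ext h3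

theorem card_range_gbarHom [Finite F] (Δ : BNData chevD4 F) :
    Nat.card (gbarHom Δ).range = 6 := by
  rw [← Nat.card_congr (MonoidHom.ofInjective (gbarHom_injective Δ)).toEquiv, card_symSubD4]

end Cfsg.Agent.Helper2.Aut

namespace Cfsg.Agent.Helper2.Aut

open Cfsg.Lie Cfsg.Agent.Helper6 Cfsg.Agent.Helper2.BN Cfsg.Agent.Helper2.Levi

variable {F : Type*} [Field F]

/-- the three outer nodes of the `D₄` diagram -/
def outerD4 : Fin 3 ≃ {i : Fin chevD4.rank // i ≠ ⟨1, by decide⟩} :=
  finSuccAboveEquiv (n := 3) (1 : Fin 4)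

set_option maxRecDepth 100000 in
theorem extendDomain_sym_D4 : ∀ τ : Equiv.Perm (Fin 3),
    chevD4.IsDiagramSymmetry (Equiv.Perm.extendDomainHom outerD4 τ) := by
  decide +kernel

/-- a permutation of the outer nodes, as a symmetry of the diagram -/
def extD4 : Equiv.Perm (Fin 3) →* symSubD4 :=
  (Equiv.Perm.extendDomainHom outerD4).codRestrict symSubD4 extendDomain_sym_D4

theorem extD4_injective : Function.Injective extD4 := by
  intro a b h
  apply Equiv.Perm.extendDomainHom_injective outerD4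
  exact congrArg Subtype.val h

theorem extD4_bijective : Function.Bijective extD4 := by
  rw [Nat.bijective_iff_injective_and_card]
  refine ⟨extD4_injective, ?_⟩
  rw [card_symSubD4, Nat.card_perm, Nat.card_eq_fintype_card, Fintype.card_fin]
  rfl

/-- the classes of the graph automorphisms form a symmetric group of degree three -/
theorem range_gbarHom_equiv [Finite F] (Δ : BNData chevD4 F) :
    Nonempty (↥(gbarHom Δ).range ≃* Equiv.Perm (Fin 3)) :=
  ⟨((MulEquiv.ofBijective extD4 extD4_bijective).trans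
    (MonoidHom.ofInjective (gbarHom_injective Δ))).symm⟩

end Cfsg.Agent.Helper2.Aut
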