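import Mathlib
import Cfsg.Agent.Helper2.OutD4.Sym
import Cfsg.Agent.Helper7.S2607M4P1
import Cfsg.Agent.Helper4.S2607M4P2
import Cfsg.Agent.Helper7.S2607M4P3
import Cfsg.Agent.Helper20.S2607M4P4
import Cfsg.Agent.Helper20.S2607M4P5

set_option autoImplicit false
set_option linter.unusedSectionVars false
set_option linter.unusedSimpArgs false
set_option linter.unusedVariables false

/-! The structure of `Out` for the Chevalley group of type `D₄`, part 2: the relations between the
classes of the diagonal, graph and field automorphisms. -/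

namespace Cfsg.Agent.Helper2.Aut

open Cfsg.Lie Cfsg.Agent.Helper6 Cfsg.Agent.Helper2.BN Cfsg.Agent.Helper2.Levi

variable {F : Type*} [Field F]

/-- graph automorphisms permute the parameters of the diagonal automorphisms -/
theorem gamD4_mul_diagA (Δ : BNData chevD4 F) (π : symSubD4) (a a' : ℕ → Fˣ)
    (h : ∀ i : Fin chevD4.rank, a' (π.1 i) = a i) :
    gamD4 Δ π * diagA isTab_D4 Δ a = diagA isTab_D4 Δ a' * gamD4 Δ π := by
  have hg := gamD4_spec Δ π
  apply mulEquiv_ext_fund isTab_D4 Δ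
  · intro i t
    rw [MulAut.mul_apply, MulAut.mul_apply]
    rw [diagA_simple, hg.pos, hg.pos, diagA_simple, h, graphExp_D4, pow_one, pow_one]
  · intro i t
    rw [MulAut.mul_apply, MulAut.mul_apply]
    rw [diagA_neg_simple, hg.neg, hg.neg, diagA_neg_simple, h, graphExp_D4, pow_one, pow_one]

theorem gbar_conj_dbar (Δ : BNData chevD4 F) (π : symSubD4) (a a' : ℕ → Fˣ)
    (h : ∀ i : Fin chevD4.rank, a' (π.1 i) = a i) :
    gbarHom Δ π * dbarHom isTab_D4 Δ a * (gbarHom Δ π)⁻¹ = dbarHom isTab_D4 Δ a' := by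
  apply conj_of_comm_rel
  rw [gbarHom_apply, dbarHom_apply, dbarHom_apply, ← map_mul, ← map_mul, gamD4_mul_diagA Δ π a a' h]

/-- field automorphisms commute with the classes of the graph automorphisms -/
theorem psi_comm_gbar (Δ : BNData chevD4 F) (σ : F ≃+* F) (π : symSubD4) :
    psiHom isTab_D4 Δ.hB σ * gbarHom Δ π = gbarHom Δ π * psiHom isTab_D4 Δ.hB σ := by
  rw [psiHom_apply, gbarHom_apply, ← map_mul, ← map_mul,
    gshape_mul_fieldAut isTab_D4 (gamD4_spec Δ π) σ]

/-- a diagonal automorphism with square parameters is inner -/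
theorem dbar_sq (Δ : BNData chevD4 F) (u : ℕ → Fˣ) :
    dbarHom isTab_D4 Δ (fun k => u k ^ 2) = 1 := by
  rw [dbarHom_apply]
  apply outMk_diagA_eq_one_D4 isTab_D4 Δ _ (u 0 * u 2) (u 0 * u 3)
  · show u 0 ^ 2 * u 2 ^ 2 = _
    rw [mul_pow]
  · show u 0 ^ 2 * u 3 ^ 2 = _
    rw [mul_pow]

/-- field automorphisms commute with the classes of the diagonal automorphisms -/
theorem psi_comm_dbar [Finite F] (Δ : BNData chevD4 F) (σ : F ≃+* F) (a : ℕ → Fˣ) :
    psiHom isTab_D4 Δ.hB σ * dbarHom isTab_D4 Δ a =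
      dbarHom isTab_D4 Δ a * psiHom isTab_D4 Δ.hB σ := by
  have hu : ∀ k, ∃ u : Fˣ, Units.map (σ : F →* F) (a k) = a k * u ^ 2 :=
    fun k => Cfsg.Agent.S2607P.sq_of_ringAut σ (a k)
  choose u hu using hu
  have e : (fun k => Units.map (σ : F →* F) (a k)) = a * (fun k => u k ^ 2) := by
    funext k
    exact hu k
  rw [psiHom_apply, dbarHom_apply, ← map_mul, fieldAut_mul_diagA isTab_D4 Δ σ a, map_mul,
    ← dbarHom_apply, e, map_mul, dbar_sq, mul_one]
  rfl

end Cfsg.Agent.Helper2.Aut
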