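import Mathlib
import Cfsg.Agent.Helper2.OutD4.Rel

set_option autoImplicit false
set_option linter.unusedSectionVars false
set_option linter.unusedSimpArgs false
set_option linter.unusedVariables false
set_option linter.style.haveILetI false

/-! The structure of `Out` for the Chevalley group of type `D₄`, part 3: the decomposition
`Out = (D̄ Γ̄) × F̄`. -/

namespace Cfsg.Agent.Helper2.Aut

open Cfsg.Lie Cfsg.Agent.Helper6 Cfsg.Agent.Helper2.BN Cfsg.Agent.Helper2.Levi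

variable {F : Type*} [Field F]

theorem out_dec_D4 [Finite F] (Δ : BNData chevD4 F) (x : Cfsg.Out ↥(chevD4.group F)) :
    ∃ (a : ℕ → Fˣ) (π : symSubD4) (σ : F ≃+* F),
      x = dbarHom isTab_D4 Δ a * gbarHom Δ π * psiHom isTab_D4 Δ.hB σ := by
  obtain ⟨θ, rfl⟩ := outMk_surjective x
  obtain ⟨a, σ, π, γ, hπ, hγ, e⟩ := out_decompT isTab_D4 Δ θ
  refine ⟨a⁻¹, ⟨π, hπ⟩, σ, ?_⟩
  have h : γ = gamD4 Δ ⟨π, hπ⟩ := hγ.unique isTab_D4 (gamD4_spec Δ ⟨π, hπ⟩)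
  rw [e, map_inv, gbarHom_apply, ← h]

theorem out_unique_D4 [Finite F] (Δ : BNData chevD4 F) {a a' : ℕ → Fˣ} {π π' : symSubD4}
    {σ σ' : F ≃+* F}
    (h : dbarHom isTab_D4 Δ a * gbarHom Δ π * psiHom isTab_D4 Δ.hB σ =
      dbarHom isTab_D4 Δ a' * gbarHom Δ π' * psiHom isTab_D4 Δ.hB σ') :
    π = π' ∧ σ = σ' ∧ dbarHom isTab_D4 Δ a = dbarHom isTab_D4 Δ a' := by
  have h1 : dbarHom isTab_D4 Δ a * outMk _ (gammaOf Δ ⟨π.1, symReal_D4 Δ π.1 π.2⟩) *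
      psiHom isTab_D4 Δ.hB σ =
      dbarHom isTab_D4 Δ a' * outMk _ (gammaOf Δ ⟨π'.1, symReal_D4 Δ π'.1 π'.2⟩) *
      psiHom isTab_D4 Δ.hB σ' := h
  obtain ⟨h2, h3, h4⟩ := xi_unique isTab_D4 Δ h1
  have h5 : (⟨π.1, symReal_D4 Δ π.1 π.2⟩ :
      {π : Equiv.Perm (Fin chevD4.rank) // SymReal Δ π}).1 =
      (⟨π'.1, symReal_D4 Δ π'.1 π'.2⟩ : {π : Equiv.Perm (Fin chevD4.rank) // SymReal Δ π}).1 :=
    congrArg Subtype.val h2
  exact ⟨Subtype.ext h5, h3, h4⟩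

/-- the characteristic of a field with `p ^ f` elements -/
theorem charP_of_card {F : Type*} [Field F] [Fintype F] (p f : ℕ) [Fact p.Prime] (hf : 1 ≤ f)
    (hF : Fintype.card F = p ^ f) : CharP F p := by
  have hq : (ringChar F).Prime := CharP.char_is_prime F (ringChar F)
  obtain ⟨n, hn⟩ := FiniteField.card F (ringChar F)
  have h1 : p ∣ (ringChar F) ^ (n : ℕ) := by
    rw [← hn.2, hF]
    exact dvd_pow_self p (by omega)
  have h2 : p ∣ ringChar F := (Fact.out : p.Prime).dvd_of_dvd_pow h1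
  have h3 : p = ringChar F := (Nat.prime_dvd_prime_iff_eq Fact.out hq).1 h2
  rw [h3]
  exact ringChar.charP F

/-- a generator of the group of field automorphisms -/
theorem exists_frob {F : Type*} [Field F] [Fintype F] (p f : ℕ) [Fact p.Prime] (hf : 1 ≤ f)
    (hF : Fintype.card F = p ^ f) :
    ∃ σ₀ : F ≃+* F, orderOf σ₀ = f ∧ ∀ σ : F ≃+* F, ∃ k : ℕ, σ = σ₀ ^ k := by
  haveI := charP_of_card p f hf hF
  haveI := isCyclic_ringAut (F := F)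
  haveI : Finite (F ≃+* F) := Finite.of_injective (fun σ : F ≃+* F => (σ : F → F))
    DFunLike.coe_injective
  obtain ⟨σ₀, hσ₀⟩ := IsCyclic.exists_generator (α := F ≃+* F)
  refine ⟨σ₀, ?_, fun σ => ?_⟩
  · rw [orderOf_eq_card_of_forall_mem_zpowers hσ₀, card_ringAut p f hF]
  · have h := hσ₀ σ
    rw [← (isOfFinOrder_of_finite σ₀).mem_powers_iff_mem_zpowers, Submonoid.mem_powers_iff] at h
    obtain ⟨k, hk⟩ := h
    exact ⟨k, hk.symm⟩

/-- `Out = (D̄ Γ̄) × F̄` -/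
theorem out_D4_prod {F : Type*} [Field F] [Fintype F] (p f : ℕ) [Fact p.Prime] (hf : 1 ≤ f)
    (hF : Fintype.card F = p ^ f) (Δ : BNData chevD4 F) :
    ((dbarHom isTab_D4 Δ).range ⊔ (gbarHom Δ).range).Normal ∧
      Nonempty (Cfsg.Out ↥(chevD4.group F) ≃*
        ↥((dbarHom isTab_D4 Δ).range ⊔ (gbarHom Δ).range) × Multiplicative (ZMod f)) := by
  obtain ⟨σ₀, hord, hgen⟩ := exists_frob p f hf hF
  haveI := dbar_normal isTab_D4 Δ
  apply Cfsg.Agent.S2607P.prod_of_three (dbarHom isTab_D4 Δ).range (gbarHom Δ).range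
    (psiHom isTab_D4 Δ.hB σ₀) f hf
  · rw [← map_pow, ← hord, pow_orderOf_eq_one, map_one]
  · intro x
    obtain ⟨a, π, σ, rfl⟩ := out_dec_D4 Δ x
    obtain ⟨k, rfl⟩ := hgen σ
    exact ⟨_, ⟨a, rfl⟩, _, ⟨π, rfl⟩, k, by rw [map_pow]⟩
  · rintro _ ⟨a, rfl⟩ _ ⟨π, rfl⟩ k h
    have h1 : dbarHom isTab_D4 Δ 1 * gbarHom Δ 1 * psiHom isTab_D4 Δ.hB (σ₀ ^ k) =
        dbarHom isTab_D4 Δ a * gbarHom Δ π * psiHom isTab_D4 Δ.hB 1 := by
      rw [map_one, map_one, map_one, one_mul, one_mul, mul_one, map_pow]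
      exact h
    obtain ⟨_, h2, _⟩ := out_unique_D4 Δ h1
    rw [← hord]
    exact orderOf_dvd_of_pow_eq_one h2
  · rintro _ ⟨a, rfl⟩
    exact psi_comm_dbar Δ σ₀ a
  · rintro _ ⟨π, rfl⟩
    exact psi_comm_gbar Δ σ₀ π

end Cfsg.Agent.Helper2.Aut
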