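import Mathlib
import Cfsg.Agent.Helper2.OutD4.Dec

set_option autoImplicit false
set_option linter.unusedSectionVars false
set_option linter.unusedSimpArgs false
set_option linter.unusedVariables false
set_option linter.style.haveILetI false

/-! The structure of `Out` for the Chevalley group of type `D₄`, part 4: `Out ≅ S₃ × C_f` in even
characteristic and `Out ≅ S₄ × C_f` in odd characteristic. -/

namespace Cfsg.Agent.Helper2.Aut

open Cfsg.Lie Cfsg.Agent.Helper6 Cfsg.Agent.Helper2.BN Cfsg.Agent.Helper2.Levi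

variable {F : Type*} [Field F]

/-! ### Even characteristic -/

theorem dbar_trivial_even [Finite F] (h2 : (2 : F) = 0) (Δ : BNData chevD4 F) :
    (dbarHom isTab_D4 Δ).range = ⊥ := by
  rw [eq_bot_iff]
  rintro _ ⟨a, rfl⟩
  rw [Subgroup.mem_bot]
  obtain ⟨u, hu⟩ := Cfsg.Agent.S2607P.exists_sqrt_char_two h2 (a 0 * a 2)
  obtain ⟨v, hv⟩ := Cfsg.Agent.S2607P.exists_sqrt_char_two h2 (a 0 * a 3)
  exact outMk_diagA_eq_one_D4 isTab_D4 Δ a u v hu hv

/-- `Out(D₄(2^f)) ≅ S₃ × C_f` -/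
theorem out_D4_even {F : Type*} [Field F] [Fintype F] (f : ℕ) (hf : 1 ≤ f)
    (hF : Fintype.card F = 2 ^ f) :
    Nonempty (Cfsg.Out ↥(chevD4.group F) ≃* Equiv.Perm (Fin 3) × Multiplicative (ZMod f)) := by
  have Δ := bnData_of_tabulated F isTab_D4
  haveI : Fact (Nat.Prime 2) := ⟨Nat.prime_two⟩
  haveI := charP_of_card 2 f hf hF
  have h2 : (2 : F) = 0 := by
    have := CharP.cast_eq_zero F 2
    exact_mod_cast this
  obtain ⟨_, ⟨e⟩⟩ := out_D4_prod 2 f hf hF Δ
  have hN : (dbarHom isTab_D4 Δ).range ⊔ (gbarHom Δ).range = (gbarHom Δ).range := by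
    rw [dbar_trivial_even h2 Δ, bot_sup_eq]
  obtain ⟨e3⟩ := range_gbarHom_equiv Δ
  exact ⟨e.trans (MulEquiv.prodCongr ((MulEquiv.subgroupCongr hN).trans e3) (MulEquiv.refl _))⟩

/-! ### Odd characteristic -/

set_option maxRecDepth 100000 in
theorem sym_fix_one_D4 : ∀ π : Equiv.Perm (Fin chevD4.rank), chevD4.IsDiagramSymmetry π →
    π ⟨1, by decide⟩ = ⟨1, by decide⟩ := by
  decide +kernel

/-- the classes of the graph automorphisms act faithfully on the classes of the diagonal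
automorphisms -/
theorem faithful_D4 [Finite F] (Δ : BNData chevD4 F) (x : Fˣ) (hx : ∀ u : Fˣ, x ≠ u ^ 2)
    (π : symSubD4)
    (h : ∀ a a' : ℕ → Fˣ, (∀ i : Fin chevD4.rank, a' (π.1 i) = a i) →
      dbarHom isTab_D4 Δ a = dbarHom isTab_D4 Δ a') : π = 1 := by
  by_contra hne
  obtain ⟨i, hi⟩ : ∃ i : Fin chevD4.rank, π.1 i ≠ i := by
    by_contra hcon
    push Not at hcon
    exact hne (Subtype.ext (Equiv.ext hcon))
  have h1 := sym_fix_one_D4 π.1 π.2
  have hi1 : i ≠ ⟨1, by decide⟩ := by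
    rintro rfl
    exact hi h1
  have hj1 : π.1 i ≠ ⟨1, by decide⟩ := by
    intro e
    rw [← h1] at e
    exact hi1 (π.1.injective e)
  obtain ⟨j, hj⟩ : ∃ j, j = π.1 i := ⟨_, rfl⟩
  rw [← hj] at hi hj1
  have haa' : ∀ m : Fin chevD4.rank,
      (fun k : ℕ => if k = j.val then x else 1) (π.1 m) =
      (fun k : ℕ => if k = i.val then x else 1) m := by
    intro m
    show (if (π.1 m).val = j.val then x else 1) = if m.val = i.val then x else 1
    by_cases hm : m = i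
    · subst hm
      rw [← hj, if_pos rfl, if_pos rfl]
    · have hmj : π.1 m ≠ j := fun e => hm (π.1.injective (e.trans hj))
      rw [if_neg (fun e => hmj (Fin.ext e)), if_neg (fun e => hm (Fin.ext e))]
  have h2 := h (fun k : ℕ => if k = i.val then x else 1) (fun k : ℕ => if k = j.val then x else 1) haa'
  have h3 : dbarHom isTab_D4 Δ ((fun k : ℕ => if k = i.val then x else 1) *
      (fun k : ℕ => if k = j.val then x else 1)⁻¹) = 1 := by
    rw [map_mul, map_inv, h2, mul_inv_cancel]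
  obtain ⟨⟨u, hu⟩, ⟨v, hv⟩⟩ := sq_of_inner_D4 isTab_D4 Δ _ h3
  have hx' : ∀ u : Fˣ, x⁻¹ ≠ u ^ 2 := by
    intro u hu
    apply hx u⁻¹
    rw [inv_pow, ← hu, inv_inv]
  have hiv : i.val = 0 ∨ i.val = 2 ∨ i.val = 3 := by
    have h4 : i.val < 4 := i.2
    have h5 : i.val ≠ 1 := fun e => hi1 (Fin.ext e)
    omega
  have hjv : j.val = 0 ∨ j.val = 2 ∨ j.val = 3 := by
    have h4 : j.val < 4 := j.2
    have h5 : j.val ≠ 1 := fun e => hj1 (Fin.ext e)
    omega
  have hij : j.val ≠ i.val := fun e => hi (Fin.ext e)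
  simp only [Pi.mul_apply, Pi.inv_apply] at hu hv
  rcases hiv with e | e | e <;> rcases hjv with e' | e' | e' <;>
    simp [e, e'] at hu hv hij <;>
    first
      | exact hx _ hu
      | exact hx _ hv
      | exact hx' _ hu
      | exact hx' _ hv

theorem card_dbar_odd {F : Type*} [Field F] [Fintype F] (p f : ℕ) [Fact p.Prime]
    (hF : Fintype.card F = p ^ f) (hp : p ≠ 2) (Δ : BNData chevD4 F) :
    Nat.card (dbarHom isTab_D4 Δ).range = 4 := by
  rw [card_range_dbarHom_D4, Nat.card_eq_fintype_card, hF]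
  have hodd : Odd (p ^ f) := ((Fact.out : p.Prime).odd_of_ne_two hp).pow
  have h2 : 2 ∣ p ^ f - 1 := by
    obtain ⟨k, hk⟩ := hodd
    rw [hk, Nat.add_sub_cancel]
    exact dvd_mul_right 2 k
  rw [Nat.gcd_eq_left h2]
  rfl

/-- `Out(D₄(q)) ≅ S₄ × C_f` for odd `q = p ^ f` -/
theorem out_D4_odd {F : Type*} [Field F] [Fintype F] (p f : ℕ) [Fact p.Prime] (hf : 1 ≤ f)
    (hF : Fintype.card F = p ^ f) (hp : p ≠ 2) :
    Nonempty (Cfsg.Out ↥(chevD4.group F) ≃* Equiv.Perm (Fin 4) × Multiplicative (ZMod f)) := by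
  have Δ := bnData_of_tabulated F isTab_D4
  haveI := charP_of_card p f hf hF
  have h2 : (2 : F) ≠ 0 := by
    intro h
    have h' : ((2 : ℕ) : F) = 0 := by exact_mod_cast h
    rw [CharP.cast_eq_zero_iff F p] at h'
    exact hp ((Nat.prime_dvd_prime_iff_eq Fact.out Nat.prime_two).1 h')
  obtain ⟨x, hx⟩ := Cfsg.Agent.S2607P.exists_nonsquare h2
  obtain ⟨hNn, ⟨e⟩⟩ := out_D4_prod p f hf hF Δ
  -- the order of `D̄ Γ̄`
  have hcardN : Nat.card ↥((dbarHom isTab_D4 Δ).range ⊔ (gbarHom Δ).range) = 24 := by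
    have h1 := Nat.card_congr e.toEquiv
    have h3 : Nat.card (Multiplicative (ZMod f)) = f := by
      rw [Nat.card_congr Multiplicative.toAdd, Nat.card_zmod]
    rw [Nat.card_prod, card_outT isTab_D4 Δ, card_dbar_odd p f hF hp Δ, card_symReal_D4,
      card_range_psiHom isTab_D4 Δ, card_ringAut p f hF, h3] at h1
    have h4 : 24 * f = Nat.card ↥((dbarHom isTab_D4 Δ).range ⊔ (gbarHom Δ).range) * f := by
      rw [← h1]; ring
    exact (Nat.eq_of_mul_eq_mul_right (by omega) h4).symm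
  have hΓle : (gbarHom Δ).range ≤ (dbarHom isTab_D4 Δ).range ⊔ (gbarHom Δ).range := le_sup_right
  have hcardΓ : Nat.card ↥((gbarHom Δ).range.subgroupOf
      ((dbarHom isTab_D4 Δ).range ⊔ (gbarHom Δ).range)) = 6 := by
    rw [Nat.card_congr (Subgroup.subgroupOfEquivOfLe hΓle).toEquiv, card_range_gbarHom]
  have hidx : ((gbarHom Δ).range.subgroupOf
      ((dbarHom isTab_D4 Δ).range ⊔ (gbarHom Δ).range)).index = 4 := by
    have h1 := ((gbarHom Δ).range.subgroupOf
      ((dbarHom isTab_D4 Δ).range ⊔ (gbarHom Δ).range)).index_mul_card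
    rw [hcardΓ, hcardN] at h1
    omega
  obtain ⟨e4⟩ := Cfsg.Agent.S2607P.perm_of_core _ 4 hidx (by rw [hcardN]; rfl) (by
    rintro ⟨k, hkN⟩ hk hconj
    rw [Subgroup.mem_subgroupOf] at hk
    obtain ⟨π, hπ⟩ := hk
    have hπ' : gbarHom Δ π = k := hπ
    subst hπ'
    have h1 : π = 1 := by
      apply faithful_D4 Δ x hx π
      intro a a' haa'
      have hv : dbarHom isTab_D4 Δ a ∈ (dbarHom isTab_D4 Δ).range ⊔ (gbarHom Δ).range :=
        Subgroup.mem_sup_left ⟨a, rfl⟩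
      have h5 := hconj ⟨dbarHom isTab_D4 Δ a, hv⟩
      rw [Subgroup.mem_subgroupOf] at h5
      obtain ⟨π', hπ'⟩ := h5
      have hπ'' : gbarHom Δ π' =
          dbarHom isTab_D4 Δ a * gbarHom Δ π * (dbarHom isTab_D4 Δ a)⁻¹ := hπ'
      have h6 := gbar_conj_dbar Δ π a a' haa'
      have h7 : dbarHom isTab_D4 Δ 1 * gbarHom Δ π' * psiHom isTab_D4 Δ.hB 1 =
          dbarHom isTab_D4 Δ (a * a'⁻¹) * gbarHom Δ π * psiHom isTab_D4 Δ.hB 1 := by
        rw [map_one, map_one, one_mul, mul_one, mul_one, hπ'', map_mul, map_inv, ← h6]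
        group
      obtain ⟨_, _, h8⟩ := out_unique_D4 Δ h7
      rw [map_one, map_mul, map_inv] at h8
      exact mul_inv_eq_one.1 h8.symm
    subst h1
    apply Subtype.ext
    exact map_one _)
  exact ⟨e.trans (MulEquiv.prodCongr e4 (MulEquiv.refl _))⟩

end Cfsg.Agent.Helper2.Aut

namespace Cfsg.Agent.S2607P

open Cfsg.Lie

/-- M4 (even): `Out(D₄(2^f)) ≅ S₃ × C_f` -/
theorem out_D4_even {F : Type*} [Field F] [Fintype F] (f : ℕ) (hf : 1 ≤ f)
    (hF : Fintype.card F = 2 ^ f) :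
    Nonempty (Cfsg.Out ↥(chevD4.group F) ≃* Equiv.Perm (Fin 3) × Multiplicative (ZMod f)) :=
  Cfsg.Agent.Helper2.Aut.out_D4_even f hf hF

/-- M4 (odd): `Out(D₄(q)) ≅ S₄ × C_f` -/
theorem out_D4_odd {F : Type*} [Field F] [Fintype F] (p f : ℕ) [Fact p.Prime] (hf : 1 ≤ f)
    (hF : Fintype.card F = p ^ f) (hp : p ≠ 2) :
    Nonempty (Cfsg.Out ↥(chevD4.group F) ≃* Equiv.Perm (Fin 4) × Multiplicative (ZMod f)) :=
  Cfsg.Agent.Helper2.Aut.out_D4_odd p f hf hF hp

end Cfsg.Agent.S2607P
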